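import Groth.Agent.VarietyB.ProjForm
import Groth.Agent.Coherent.K791.FBC0
import Groth.Agent.GrpSch.K269.PushCoh
import Groth.Agent.CohqB.PullTwist471
import Groth.Agent.AdjLin.K800.MulMap

/-!
# Künneth formula for global sections, as a statement on products of sections

`kun`: `P = X × Y` over a field, `X` proper, `E` coherent on `X`, `F` finite locally free on `Y`: every global
section of `u^* E ⊗ v^* F` is a finite sum of products `u^* a ⊗ v^* b`.
-/

set_option autoImplicit false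
universe u

open CategoryTheory CategoryTheory.Limits AlgebraicGeometry Opposite TopologicalSpace
open AlgebraicGeometry.Scheme.Modules
open Groth.Agent Groth.Agent.VarietyB Groth.Agent.VarietyB.TensLoc Groth.Agent.VarietyB.TensCoh
open Groth.Agent.VarietyB.PullLoc Groth.Agent.VarietyB.ProjForm
open Groth.Agent.CohqA.PullbackUniv Groth.Agent.CohqA.PullbackAffine
  Groth.Agent.CohqA.PullbackSections Groth.Agent.CohqA.AffineBaseChange

namespace K139.Kun0

open Groth.Agent.Fdesc.LocGen (pullSec pullSec_smul res_pullSec pullSec_add)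

/-- The opens of the spectrum of a field. -/
theorem eq_bot_or_top {k : Type u} [Field k] (V : (Spec (CommRingCat.of k)).Opens) : V = ⊥ ∨ V = ⊤ := by
  by_cases h : IsLocalRing.closedPoint k ∈ V
  · refine Or.inr (top_le_iff.1 fun x _ => ?_)
    rwa [Subsingleton.elim x (IsLocalRing.closedPoint k)]
  · refine Or.inl (le_bot_iff.1 fun x hx => ?_)
    rw [Subsingleton.elim x (IsLocalRing.closedPoint k)] at hx
    exact h hx

theorem subsingleton_bot {X : Scheme.{u}} (M : X.Modules) : Subsingleton Γ(M, (⊥ : X.Opens)) :=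
  ⟨fun s t => eq_of_locally s t fun x hx => absurd hx (by simp)⟩

/-- A basis of a module on the spectrum of a field. -/
theorem exists_isBasis_field {k : Type u} [Field k] (V : (Spec (CommRingCat.of k)).Modules)
    (hfin : Module.Finite Γ(Spec (CommRingCat.of k), ⊤) Γ(V, ⊤)) :
    ∃ (n : ℕ) (e : Fin n → Γ(V, ⊤)), IsBasis V ⊤ e := by
  let f : k ≃+* Γ(Spec (CommRingCat.of k), ⊤) :=
    (Scheme.ΓSpecIso (CommRingCat.of k)).symm.commRingCatIsoToRingEquiv
  let i1 : Algebra k Γ(Spec (CommRingCat.of k), ⊤) := f.toRingHom.toAlgebra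
  let i2 : Module k Γ(V, ⊤) := Module.compHom _ f.toRingHom
  have i3 : IsScalarTower k Γ(Spec (CommRingCat.of k), ⊤) Γ(V, ⊤) := ⟨fun a b x => by
    change (f a * b) • x = f a • (b • x)
    rw [mul_smul]⟩
  have i4 : Module.Finite k Γ(Spec (CommRingCat.of k), ⊤) :=
    Module.Finite.of_surjective (Algebra.linearMap k Γ(Spec (CommRingCat.of k), ⊤)) f.surjective
  have i5 : Module.Finite k Γ(V, ⊤) := Module.Finite.trans Γ(Spec (CommRingCat.of k), ⊤) _
  let b0 := Module.finBasis k Γ(V, ⊤)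
  let b : Module.Basis (Fin (Module.finrank k Γ(V, ⊤))) Γ(Spec (CommRingCat.of k), ⊤) Γ(V, ⊤) :=
    b0.mapCoeffs f (fun c x => rfl)
  refine ⟨_, b, fun W hW => ?_⟩
  rcases eq_bot_or_top W with rfl | rfl
  · have h1 := subsingleton_bot V
    have h2 : Subsingleton Γ(Spec (CommRingCat.of k), (⊥ : (Spec (CommRingCat.of k)).Opens)) := inferInstance
    exact ⟨fun a b _ => Subsingleton.elim a b, fun x => ⟨0, Subsingleton.elim _ _⟩⟩
  · have h1 : (fun a : Fin _ → Γ(Spec (CommRingCat.of k), ⊤) => ∑ i, a i • res V hW (b i)) =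
        b.equivFun.symm := by
      funext a
      rw [b.equivFun_symm_apply]
      refine Finset.sum_congr rfl fun i _ => ?_
      rw [res_self]
    rw [h1]
    exact b.equivFun.symm.bijective

section Kun

variable {P X Y : Scheme.{u}} {k : Type u} [Field k] {qX : X ⟶ Spec (CommRingCat.of k)}
  {qY : Y ⟶ Spec (CommRingCat.of k)} {u : P ⟶ X} {v : P ⟶ Y}

/-- `v_* u^* E` has a global basis consisting of pulled back sections. -/
theorem exists_isBasis [IsProper qX] (H : IsPullback u v qX qY) {E : X.Modules} (hE : Coh.IsCoh E) :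
    ∃ (n : ℕ) (e : Fin n → Γ(E, ⊤)),
      IsBasis ((pushforward v).obj ((Scheme.Modules.pullback u).obj E)) ⊤
        (fun i => (show Γ((pushforward v).obj ((Scheme.Modules.pullback u).obj E), ⊤) from pullSec u (e i))) := by
  have hp : IsProper (qX ∣_ (⊤ : (Spec (CommRingCat.of k)).Opens)) := inferInstance
  have hfin : Module.Finite Γ(Spec (CommRingCat.of k), ⊤) Γ((pushforward qX).obj E, ⊤) :=
    K269.PushCoh.finite_sections_push qX E hE (isAffineOpen_top _) hp
  obtain ⟨n, e, he⟩ := exists_isBasis_field ((pushforward qX).obj E) hfin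
  have hfl : Flat qY := inferInstance
  have h1 := Coherent.K791.FBC0.isUniv_pushSquare_flat H hE.1 (pbUnit u E) (isUniv_pbUnit u E)
  obtain ⟨ε, hε, -⟩ := (isUniv_pbUnit qY ((pushforward qX).obj E)).exists_iso h1
  have h2 := (isBasis_pullTop qY he).of_iso ε
  refine ⟨n, e, ?_⟩
  have h3 : (fun i => ε.hom.app (qY ⁻¹ᵁ ⊤) (pullSec qY (e i))) =
      (fun i => (show Γ((pushforward v).obj ((Scheme.Modules.pullback u).obj E), ⊤) from pullSec u (e i))) := by
    funext i
    have h4 : ε.hom.app (qY ⁻¹ᵁ ⊤) (pullSec qY (e i)) =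
        (pushSquare qX qY u v H.w (pbUnit u E)).app ⊤ (e i) :=
      congr($(congrArg (fun t => Hom.app t ⊤) hε) (e i))
    have h5 := secMap_pushSquare qX qY u v H.w (pbUnit u E) ⊤ ⊤ le_rfl le_rfl (e i)
    rw [secMap_top] at h5
    exact h4.trans (h5.trans congr($(secMap_top u (pbUnit u E)) (e i)))
  have h4 : IsBasis ((pushforward v).obj ((Scheme.Modules.pullback u).obj E)) ⊤
      (fun i => ε.hom.app (qY ⁻¹ᵁ ⊤) (pullSec qY (e i))) := h2
  rw [h3] at h4
  exact h4

/-- **Künneth for global sections.** -/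
theorem kun [IsProper qX] (H : IsPullback u v qX qY) {E : X.Modules} (hE : Coh.IsCoh E) {F : Y.Modules}
    (hF : HasBases F)
    (t : Γ(CohB1.tensorMod ((Scheme.Modules.pullback u).obj E) ((Scheme.Modules.pullback v).obj F), ⊤)) :
    ∃ (n : ℕ) (a : Fin n → Γ(E, ⊤)) (b : Fin n → Γ(F, ⊤)),
      t = ∑ i, Ega2.Tens.tmul (U := ⊤) (pullSec u (a i)) (pullSec v (b i)) := by
  obtain ⟨n, e, he⟩ := exists_isBasis H hE
  let A := (Scheme.Modules.pullback u).obj E
  let B := (Scheme.Modules.pullback v).obj F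
  let f1 := Ega2.Tens.swap ((pushforward v).obj A) F
  let f2 := projIso v hF A
  let f3 := Ega2.Tens.swap B A
  let ψ : Γ(CohB1.tensorMod ((pushforward v).obj A) F, ⊤) →+ Γ(CohB1.tensorMod A B, ⊤) :=
    (K800.MulMap.gl f3.hom).comp ((show Γ(CohB1.tensorMod F ((pushforward v).obj A), ⊤) →+
      Γ(CohB1.tensorMod B A, ⊤) from K800.MulMap.gl f2.hom).comp (K800.MulMap.gl f1.hom))
  have hψ : ∀ (m : Γ((pushforward v).obj A, ⊤)) (n : Γ(F, ⊤)),
      ψ (Ega2.Tens.tmul m n) = Ega2.Tens.tmul (U := ⊤) (show Γ(A, ⊤) from m) (pullSec v n) := by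
    intro m n
    change f3.hom.app ⊤ (f2.hom.app ⊤ (f1.hom.app ⊤ (Ega2.Tens.tmul m n))) = _
    have h1 : f1.hom.app ⊤ (Ega2.Tens.tmul m n) = Ega2.Tens.tmul n m := Ega2.TensPow.swap_tmul m n
    rw [h1]
    have h2 : f2.hom.app ⊤ (Ega2.Tens.tmul n m) =
        (Ega2.Tens.tmul (U := ⊤) (pullSec v n) (show Γ(A, ⊤) from m) : Γ(CohB1.tensorMod B A, ⊤)) :=
      projMor_tmul v F A n m
    refine (congrArg (f3.hom.app ⊤) h2).trans ?_
    exact Ega2.TensPow.swap_tmul (U := ⊤) (pullSec v n) (show Γ(A, ⊤) from m)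
  have hsurj : ∃ s, ψ s = t := by
    refine ⟨f1.inv.app ⊤ (f2.inv.app ⊤ (f3.inv.app ⊤ t)), ?_⟩
    change f3.hom.app ⊤ (f2.hom.app ⊤ (f1.hom.app ⊤ (f1.inv.app ⊤ (f2.inv.app ⊤ (f3.inv.app ⊤ t))))) = t
    have h1 := Ega2.TensPow.app_symm_app f1 (f2.inv.app ⊤ (f3.inv.app ⊤ t))
    have h2 := Ega2.TensPow.app_symm_app f2 (U := ⊤) (f3.inv.app ⊤ t)
    have h3 := Ega2.TensPow.app_symm_app f3 t
    refine (congrArg (fun z => f3.hom.app ⊤ (f2.hom.app ⊤ z)) h1).trans ?_
    exact (congrArg (f3.hom.app ⊤) h2).trans h3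
  obtain ⟨s, rfl⟩ := hsurj
  obtain ⟨g, rfl⟩ := (tcomb_bijective he F (le_refl ⊤)).2 s
  refine ⟨n, e, g, ?_⟩
  rw [tcomb_apply]
  refine (map_sum ψ _ _).trans (Finset.sum_congr rfl fun i _ => ?_)
  rw [res_self]
  exact hψ _ _

end Kun

end K139.Kun0
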