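import Groth.Agent.AbVar.K139.Kun0
import Groth.Agent.Coherent.K54.PushH1
import Groth.Agent.AbVar.K527.FibreVan
import Groth.Agent.Flat2E.FormalLift418

/-!
# Sections of a globally generated direct image at a rational point

* `surjective_of_gg`: `M` quasi-coherent and globally generated on `Y` over a field, `α` a rational point: the
  global sections of `M` map onto those of `α^* M`.
* `isUniv_of_van`: `π_* F` commutes with base change to a field valued point if `H^1` of the fibre vanishes.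
* `surjective`: `π_* F` globally generated, `H^1` of the fibre zero: `Γ(X, F) → Γ(X_x, F_x)` is onto.
-/

set_option autoImplicit false
universe u

open CategoryTheory CategoryTheory.Limits AlgebraicGeometry Opposite TopologicalSpace
open AlgebraicGeometry.Scheme.Modules
open Groth.Agent Groth.Agent.CohqA.PullbackUniv Groth.Agent.CohqA.PullbackAffine
  Groth.Agent.CohqA.PullbackSections Groth.Agent.CohqA.AffineBaseChange

namespace K139.PtSurj

open Groth.Agent.Fdesc.LocGen (pullSec pullSec_smul res_pullSec pullSec_add)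

/-- A globally generated quasi-coherent module at a rational point. -/
theorem surjective_of_gg {k : Type u} [Field k] {Y : Scheme.{u}} {qY : Y ⟶ Spec (CommRingCat.of k)}
    {α : Spec (CommRingCat.of k) ⟶ Y} (hα : α ≫ qY = 𝟙 _) {M : Y.Modules} (hM : Coh.IsQCoh M)
    (hgg : Curv2.IsGloballyGenerated M) {N : (Spec (CommRingCat.of k)).Modules}
    (a : M ⟶ (pushforward α).obj N) (ha : IsUniv α a) :
    Function.Surjective (fun m : Γ(M, ⊤) => (show Γ(N, ⊤) from a.app ⊤ m)) := by
  obtain ⟨σ, s, hs⟩ := CurvesC.GGSec.exists_sections_of_isGloballyGenerated hgg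
  obtain ⟨V, hV, hyV, -⟩ := exists_isAffineOpen_mem_and_subset
    (x := α (IsLocalRing.closedPoint k)) (U := ⊤) trivial
  have e : (⊤ : (Spec (CommRingCat.of k)).Opens) ≤ α ⁻¹ᵁ V := by
    intro x _
    rw [Subsingleton.elim x (IsLocalRing.closedPoint k)]
    exact hyV
  have hM' : M.IsQuasicoherent := hM
  have hbc := isBC_secMap α a ha hV (isAffineOpen_top (Spec (CommRingCat.of k))) e
  have hsp := K54.PushBC.span_of_isBC hbc
  let T : Submodule Γ(Spec (CommRingCat.of k), ⊤) Γ(N, ⊤) :=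
    { carrier := Set.range (fun m : Γ(M, ⊤) => (show Γ(N, ⊤) from a.app ⊤ m))
      add_mem' := by
        rintro _ _ ⟨x, rfl⟩ ⟨y, rfl⟩
        exact ⟨x + y, map_add (a.app ⊤).hom x y⟩
      zero_mem' := ⟨0, map_zero (a.app ⊤).hom⟩
      smul_mem' := by
        rintro c _ ⟨x, rfl⟩
        refine ⟨(show Γ(Y, ⊤) from qY.app ⊤ c) • x, ?_⟩
        refine (Hom.app_smul a _ _).trans ?_
        change (show Γ(Spec (CommRingCat.of k), ⊤) from α.app ⊤ (qY.app ⊤ c)) • (show Γ(N, ⊤) from a.app ⊤ x) = _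
        have h1 : (show Γ(Spec (CommRingCat.of k), ⊤) from α.app ⊤ (qY.app ⊤ c)) = c := by
          have h2 : qY.app ⊤ ≫ α.app ⊤ = (α ≫ qY).app ⊤ := (Scheme.Hom.comp_app α qY ⊤).symm
          have h3 : (α ≫ qY).app ⊤ = 𝟙 _ := by
            rw [Scheme.Hom.congr_app hα ⊤]
            simp
          exact congr($(h2.trans h3) c)
        rw [h1] }
  have hT : ∀ m : Γ(M, V), secMap α a V ⊤ e m ∈ T := by
    intro m
    have hm : m ∈ Submodule.span Γ(Y, V) (Set.range fun i => Fdesc.LocGen.res M (le_top : V ≤ ⊤) (s i)) := by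
      have h1 := CurvesC.GGSec.spanOn_eq_top hM hs hV
      have h3 : Submodule.span Γ(Y, V) (Set.range fun i => Fdesc.LocGen.res M (le_top : V ≤ ⊤) (s i)) = ⊤ := h1
      rw [h3]
      trivial
    induction hm using Submodule.span_induction with
    | mem x hx =>
      obtain ⟨i, rfl⟩ := hx
      refine ⟨s i, ?_⟩
      have h1 : a.app V (Fdesc.LocGen.res M (le_top : V ≤ ⊤) (s i)) =
          ((pushforward α).obj N).presheaf.map (homOfLE (le_top : V ≤ ⊤)).op (a.app ⊤ (s i)) :=
        VarietyB.TensLoc.app_res a le_top (s i)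
      change _ = N.presheaf.map (homOfLE e).op (a.app V (Fdesc.LocGen.res M (le_top : V ≤ ⊤) (s i)))
      rw [h1]
      have h2 : N.presheaf.map (homOfLE e).op (((pushforward α).obj N).presheaf.map
          (homOfLE (le_top : V ≤ ⊤)).op (a.app ⊤ (s i))) =
          VarietyB.TensLoc.res N (le_refl ⊤) (a.app ⊤ (s i)) :=
        VarietyB.TensLoc.res_res N (U := ⊤) (V := α ⁻¹ᵁ V) (W := ⊤) le_top e (a.app ⊤ (s i))
      rw [h2, VarietyB.TensLoc.res_self]
    | zero => rw [map_zero]; exact T.zero_mem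
    | add x y _ _ hx hy => rw [map_add]; exact T.add_mem hx hy
    | smul r x _ hx => rw [secMap_smul]; exact T.smul_mem _ hx
  intro t
  have ht : t ∈ Submodule.span Γ(Spec (CommRingCat.of k), ⊤) (Set.range (secMap α a V ⊤ e).hom) := by
    rw [hsp]
    trivial
  have hle : Submodule.span Γ(Spec (CommRingCat.of k), ⊤) (Set.range (secMap α a V ⊤ e).hom) ≤ T := by
    rw [Submodule.span_le]
    rintro _ ⟨m, rfl⟩
    exact hT m
  exact hle ht

/-- Base change at a field valued point with vanishing `H^1` of the fibre. -/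
theorem isUniv_of_van {X Y X' : Scheme.{u}} {K : Type u} [Field K] (π : X ⟶ Y) [IsProper π]
    [LocallyOfFinitePresentation π] {F : X.Modules} (hF : Coh.IsQCoh F) (hfp : CohB1.IsFP F)
    (hfl : FlatMod.IsFlatOver π F) (t : Spec (CommRingCat.of K) ⟶ Y) (f : X' ⟶ X)
    (ζ : X' ⟶ Spec (CommRingCat.of K)) (H : IsPullback f ζ π t)
    (h1 : Subsingleton (Coh.HH X' ((Scheme.Modules.pullback f).obj F) 1)) :
    IsUniv t (pushSquare π t f ζ H.w (pbUnit f F)) := by
  have h2 : Subsingleton (CohIII.fiberH π F (t (IsLocalRing.closedPoint K)) 1) :=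
    (K527.FibreVan.fiberH_iff π F hF t f ζ H 0).2 h1
  obtain ⟨V, hV, hyV, -⟩ := exists_isAffineOpen_mem_and_subset
    (x := t (IsLocalRing.closedPoint K)) (U := ⊤) trivial
  obtain ⟨C, hC⟩ := K54.PushSec.exists_compData π F hfp hfl hV
  have h3 := K54.PushH1.subsingleton_HB π F hF hV C hC ⟨_, hyV⟩ 1 h2
  have h4 := (K55.KerAlg.of_subsingleton_ker (C.exact 1) (C.surj 1) _ h3).2.1
  obtain ⟨U, hyU, -, hU⟩ := K54.PushBC.exists_nhd π F hF hV C (K54.PushSec.secData π F hV C hC) ⟨_, hyV⟩ h4
  refine hU f ζ t H fun z => ?_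
  rw [Subsingleton.elim z (IsLocalRing.closedPoint K)]
  exact hyU

/-- **Sections of the fibre.** -/
theorem surjective {X Y X' : Scheme.{u}} {k : Type u} [Field k] (π : X ⟶ Y) [IsProper π]
    [LocallyOfFinitePresentation π] {F : X.Modules} (hF : Coh.IsQCoh F) (hfp : CohB1.IsFP F)
    (hfl : FlatMod.IsFlatOver π F) {qY : Y ⟶ Spec (CommRingCat.of k)}
    {x : Spec (CommRingCat.of k) ⟶ Y} (hx : x ≫ qY = 𝟙 _) (f : X' ⟶ X)
    (ζ : X' ⟶ Spec (CommRingCat.of k)) (H : IsPullback f ζ π x)
    (hgg : Curv2.IsGloballyGenerated ((pushforward π).obj F))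
    (h1 : Subsingleton (Coh.HH X' ((Scheme.Modules.pullback f).obj F) 1)) :
    Function.Surjective (fun m : Γ(F, ⊤) =>
      (show Γ((Scheme.Modules.pullback f).obj F, ⊤) from pullSec f m)) := by
  have hu := isUniv_of_van π hF hfp hfl x f ζ H h1
  have h2 := surjective_of_gg hx (Ega1.QcqsPush.isQCoh_pushforward π F hF) hgg _ hu
  intro t
  obtain ⟨m, hm⟩ := h2 t
  refine ⟨m, ?_⟩
  rw [← hm]
  have h5 := secMap_pushSquare π x f ζ H.w (pbUnit f F) ⊤ ⊤ le_rfl le_rfl m
  rw [secMap_top] at h5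
  exact (h5.trans congr($(secMap_top f (pbUnit f F)) m)).symm

end K139.PtSurj
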