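import Groth.Agent.AbVar.K139.PtSurj
import Groth.Agent.Sga67.LocBasisOps
import Groth.Agent.Desc.FinLocFreeSections
import Groth.Agent.PerfB.FlatPull
import Groth.Agent.Coherent.K45.HomLift
import Mathlib.CategoryTheory.Monoidal.Cartesian.Grp
import Mathlib.CategoryTheory.Monoidal.Cartesian.Over

/-!
# Multiplication maps from the skew Pontrjagin product

`mulSurj`: `A` a proper group scheme over a field, `E`, `F` finite locally free on `A`, the skew Pontrjagin
product `p_{1*} (m^* E ⊗ p_2^* F)` globally generated, `x` a rational point and `H^1` of `(x ·)^* E ⊗ F` zero: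
then `H^0((x ·)^* E) ⊗ H^0(F) → H^0((x ·)^* E ⊗ F)` is onto.
-/

set_option autoImplicit false
universe u

open CategoryTheory CategoryTheory.Limits MonoidalCategory CartesianMonoidalCategory MonObj GrpObj
open AlgebraicGeometry Opposite TopologicalSpace
open Groth.Agent

namespace K139.Skew

open Groth.Agent.Fdesc.LocGen (pullSec pullSec_smul res_pullSec pullSec_add)

section Cart

variable {C : Type*} [Category C] [CartesianMonoidalCategory C]

/-- `(m, p₂)` identifies `A × A` with `A × A`. -/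
theorem isPullback_mu_snd (A : C) [GrpObj A] :
    IsPullback (μ[A] : A ⊗ A ⟶ A) (snd A A) (toUnit A) (toUnit A) := by
  refine ⟨⟨toUnit_unique _ _⟩, ⟨PullbackCone.IsLimit.mk _
    (fun c => lift (c.fst * (c.snd)⁻¹) c.snd) (fun c => ?_) (fun c => lift_snd _ _) (fun c m h1 h2 => ?_)⟩⟩
  · change (c.fst * (c.snd)⁻¹) * c.snd = c.fst
    rw [inv_mul_cancel_right]
  · apply CartesianMonoidalCategory.hom_ext
    · rw [lift_fst]
      have h3 : (m ≫ fst A A) * (m ≫ snd A A) = c.fst := by
        rw [← h1]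
        change lift (m ≫ fst A A) (m ≫ snd A A) ≫ μ[A] = _
        rw [lift_comp_fst_snd]
      rw [← h3, h2, mul_inv_cancel_right]
    · rw [lift_snd, ← h2]

/-- The fibre of `p₁ : A × B ⟶ A` at a point. -/
theorem isPullback_pt {A : C} (B : C) (x : 𝟙_ C ⟶ A) :
    IsPullback (lift (toUnit B ≫ x) (𝟙 B)) (toUnit B) (fst A B) x := by
  refine ⟨⟨lift_fst _ _⟩, ⟨PullbackCone.IsLimit.mk _
    (fun c => c.fst ≫ snd A B) (fun c => ?_) (fun c => toUnit_unique _ _) (fun c m h1 h2 => ?_)⟩⟩
  · apply CartesianMonoidalCategory.hom_ext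
    · rw [Category.assoc, Category.assoc, lift_fst, ← Category.assoc, ← Category.assoc, c.condition]
      congr 1
      exact toUnit_unique _ _
    · rw [Category.assoc, lift_snd, Category.comp_id]
  · rw [← h1, Category.assoc, lift_snd, Category.comp_id]

end Cart

section Main

variable {k : Type u} [Field k]

/-- **General form**: `P = Y × X → Y` with a second presentation `(u, v)` of `P` as a product. -/
theorem mulSurj_of_square {P X Y B Z : Scheme.{u}} {qX : X ⟶ Spec (CommRingCat.of k)}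
    {qB : B ⟶ Spec (CommRingCat.of k)} {qY : Y ⟶ Spec (CommRingCat.of k)} [IsProper qX]
    {u : P ⟶ X} {v : P ⟶ B} (H : IsPullback u v qX qB)
    (π : P ⟶ Y) [IsProper π] [Flat π] [LocallyOfFinitePresentation π]
    {x : Spec (CommRingCat.of k) ⟶ Y} (hx : x ≫ qY = 𝟙 _) {i : Z ⟶ P} {ζ : Z ⟶ Spec (CommRingCat.of k)}
    (H' : IsPullback i ζ π x) {E : X.Modules} (hE : FlatMod.IsFinLocFree E) (hEc : Coh.IsCoh E)
    {F : B.Modules} (hF : FlatMod.IsFinLocFree F)
    (hgg : Curv2.IsGloballyGenerated ((Scheme.Modules.pushforward π).obj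
      (CohB1.tensorMod ((Scheme.Modules.pullback u).obj E) ((Scheme.Modules.pullback v).obj F))))
    {tu : Z ⟶ X} (htu : i ≫ u = tu) {tv : Z ⟶ B} (htv : i ≫ v = tv)
    (h1 : Subsingleton (Coh.HH Z (CohB1.tensorMod ((Scheme.Modules.pullback tu).obj E)
      ((Scheme.Modules.pullback tv).obj F)) 1)) :
    K800.MulMap.MulSurj ((Scheme.Modules.pullback tu).obj E) ((Scheme.Modules.pullback tv).obj F) := by
  subst htu htv
  have hbE := VarietyB.TensCoh.HasBases.of_isFinLocFree hE
  have hbF := VarietyB.TensCoh.HasBases.of_isFinLocFree hF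
  let EE := (Scheme.Modules.pullback u).obj E
  let FF := (Scheme.Modules.pullback v).obj F
  have hEE : FlatMod.IsFinLocFree EE := PerfB.FlatPull.isFinLocFree_pullback u hE
  have hFF : FlatMod.IsFinLocFree FF := PerfB.FlatPull.isFinLocFree_pullback v hF
  have hG : FlatMod.IsFinLocFree (CohB1.tensorMod EE FF) :=
    Groth.Agent.Sga67.LocBasis.isFinLocFree_tensorMod hEE hFF
  have hbEE := VarietyB.TensCoh.HasBases.of_isFinLocFree hEE
  let d := CohqB.PullTwist471.pullTensorIsoLeft i hbEE FF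
  let α : (Scheme.Modules.pullback i).obj EE ≅ (Scheme.Modules.pullback (i ≫ u)).obj E :=
    (Scheme.Modules.pullbackComp i u).app E
  let β : (Scheme.Modules.pullback i).obj FF ≅ (Scheme.Modules.pullback (i ≫ v)).obj F :=
    (Scheme.Modules.pullbackComp i v).app F
  let ab := Ega2.Tens.mapTIso α β
  have h1' : Subsingleton (Coh.HH Z ((Scheme.Modules.pullback i).obj (CohB1.tensorMod EE FF)) 1) :=
    Flat2D.LocalGlobalH.subsingleton_HH_of_iso (d ≪≫ ab).symm _ h1
  have hs := PtSurj.surjective π (PerfA.QCohEpi.isQCoh_of_isFinLocFree hG)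
    (Desc.FinLocFreeSections.isFP_of_isFinLocFree hG) (K45.HomLift.isFlatOver_of_flf π hG) hx i ζ H' hgg h1'
  intro t
  obtain ⟨m, hm⟩ := hs ((d ≪≫ ab).inv.app ⊤ t)
  obtain ⟨n, a, b, rfl⟩ := Kun0.kun H hEc hbF m
  have ht : (d ≪≫ ab).hom.app ⊤ ((d ≪≫ ab).inv.app ⊤ t) = t := Ega2.TensPow.app_symm_app (d ≪≫ ab) t
  rw [← ht, ← hm]
  change (d ≪≫ ab).hom.app ⊤ (pullSec i (∑ j, Ega2.Tens.tmul (U := ⊤) (pullSec u (a j)) (pullSec v (b j)))) ∈ _
  have hadd : (pullSec i (∑ j, Ega2.Tens.tmul (U := ⊤) (pullSec u (a j)) (pullSec v (b j))) :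
      Γ((Scheme.Modules.pullback i).obj (CohB1.tensorMod EE FF), i ⁻¹ᵁ ⊤)) =
      ∑ j, pullSec i (Ega2.Tens.tmul (U := ⊤) (pullSec u (a j)) (pullSec v (b j))) :=
    map_sum (((Scheme.Modules.pullbackPushforwardAdjunction i).unit.app (CohB1.tensorMod EE FF)).app ⊤).hom _ _
  rw [hadd]
  refine (congrArg (· ∈ K800.MulMap.prods _ _) (map_sum ((d ≪≫ ab).hom.app ⊤).hom _ _)).mpr ?_
  refine AddSubgroup.sum_mem _ fun j _ => ?_
  have h2 : d.hom.app ⊤ (pullSec i (Ega2.Tens.tmul (U := ⊤) (pullSec u (a j)) (pullSec v (b j)))) =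
      Ega2.Tens.tmul (U := ⊤) (pullSec i (pullSec u (a j))) (pullSec i (pullSec v (b j))) :=
    Ega3B.PullTensor.delta_pullSec i EE FF (U := ⊤) (pullSec u (a j)) (pullSec v (b j))
  change ab.hom.app ⊤ (d.hom.app ⊤ (pullSec i (Ega2.Tens.tmul (U := ⊤) (pullSec u (a j)) (pullSec v (b j))))) ∈ _
  rw [h2]
  have h3 : ab.hom.app ⊤ (Ega2.Tens.tmul (U := ⊤) (pullSec i (pullSec u (a j))) (pullSec i (pullSec v (b j)))) =
      Ega2.Tens.tmul (α.hom.app ⊤ (pullSec i (pullSec u (a j)))) (β.hom.app ⊤ (pullSec i (pullSec v (b j)))) :=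
    Ega2.Tens.mapT_tmul _ _ _ _
  rw [h3]
  exact K800.MulMap.tmul_mem_prods _ _

variable {A : Over (Spec (CommRingCat.of k))} [GrpObj A] [IsProper A.hom]

/-- **The multiplication map at a point** (translation on the left factor). -/
theorem mulSurj_translate {E F : A.left.Modules} (hE : FlatMod.IsFinLocFree E) (hF : FlatMod.IsFinLocFree F)
    (hgg : Curv2.IsGloballyGenerated ((Scheme.Modules.pushforward (fst A A).left).obj
      (CohB1.tensorMod ((Scheme.Modules.pullback μ[A].left).obj E)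
        ((Scheme.Modules.pullback (snd A A).left).obj F))))
    (x : 𝟙_ (Over (Spec (CommRingCat.of k))) ⟶ A)
    (h1 : Subsingleton (Coh.HH A.left
      (CohB1.tensorMod ((Scheme.Modules.pullback ((toUnit A ≫ x) * 𝟙 A).left).obj E) F) 1)) :
    K800.MulMap.MulSurj ((Scheme.Modules.pullback ((toUnit A ≫ x) * 𝟙 A).left).obj E) F := by
  have hN : IsLocallyNoetherian A.left := by
    have : LocallyOfFiniteType A.hom := inferInstance
    exact LocallyOfFiniteType.isLocallyNoetherian A.hom
  have hpr : IsProper (fst A A).left := inferInstanceAs (IsProper (pullback.fst A.hom A.hom))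
  have hfl : Flat (fst A A).left := inferInstanceAs (Flat (pullback.fst A.hom A.hom))
  have hfp : LocallyOfFinitePresentation A.hom := inferInstance
  have hfp' : LocallyOfFinitePresentation (fst A A).left :=
    inferInstanceAs (LocallyOfFinitePresentation (pullback.fst A.hom A.hom))
  have H := (isPullback_mu_snd A).map (Over.forget _)
  have H' := (isPullback_pt A x).map (Over.forget _)
  have e1 : (toUnit A).left = A.hom := by
    have := Over.w (toUnit A)
    simpa using this
  have hx : x.left ≫ A.hom = 𝟙 _ := by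
    have := Over.w x
    simpa using this
  have htv : (lift (toUnit A ≫ x) (𝟙 A)).left ≫ (snd A A).left = 𝟙 A.left := by
    rw [← Over.comp_left, lift_snd]
    rfl
  have hF' : (Scheme.Modules.pullback (𝟙 A.left)).obj F ≅ F := (Scheme.Modules.pullbackId _).app F
  have key := mulSurj_of_square (qX := A.hom) (qB := A.hom) (qY := A.hom) (u := μ[A].left) (v := (snd A A).left)
    (by simpa [e1] using H) (fst A A).left (x := x.left) hx (i := (lift (toUnit A ≫ x) (𝟙 A)).left) (ζ := A.hom)
    (by simpa [e1] using H') hE (PerfA.CohSerre.isCoh_of_isFinLocFree hE) hF hgg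
    (tu := ((toUnit A ≫ x) * 𝟙 A).left) rfl htv
    (Flat2D.LocalGlobalH.subsingleton_HH_of_iso (Ega2.Tens.mapTIso (Iso.refl _) hF'.symm) _ h1)
  exact key.congr (Iso.refl _) hF'

end Main

end K139.Skew
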